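import Cfsg.Agent.Lib.Fusion.RankTwo.Main
import Cfsg.Agent.Lib.Fusion.ZStarFusion

/-!
# The group forms of the two-rank two Sylow theorem
-/

set_option autoImplicit false

open Cfsg Cfsg.FusionSystem

namespace CfsgLib.Fusion.RankTwo

variable {G : Type*} [Group G] [Finite G]

theorem sylow_rank (S : Sylow 2 G) (h2 : Cfsg.PRankLE 2 2 G) (h1 : ¬ Cfsg.PRankLE 2 1 G) :
    Cfsg.PRankAtLeast 2 2 ↥(S : Subgroup G) ∧ ¬ Cfsg.PRankAtLeast 2 3 ↥(S : Subgroup G) := by
  have : Fact (Nat.Prime 2) := ⟨Nat.prime_two⟩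
  constructor
  · simp only [Cfsg.PRankLE, not_forall] at h1
    obtain ⟨A, hAc, hA2, hAcard⟩ := h1
    have hAp : IsPGroup 2 A := fun a => ⟨1, Subtype.ext (by simpa using hA2 a a.2)⟩
    obtain ⟨g, hg⟩ := exists_conj_mem hAp S.2 S.not_dvd_index
    let f : ↥A →* ↥(S : Subgroup G) :=
      MonoidHom.mk' (fun a => ⟨g * a * g⁻¹, hg a a.2⟩) fun a b => Subtype.ext (by
        show g * ((a : G) * b) * g⁻¹ = g * a * g⁻¹ * (g * b * g⁻¹)
        group)
    have hf : Function.Injective f := fun a b hab => Subtype.ext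
      (mul_left_cancel (mul_right_cancel (congrArg Subtype.val hab :)))
    refine ⟨f.range, ⟨⟨?_⟩⟩, ?_, ?_⟩
    · rintro ⟨_, a, rfl⟩ ⟨_, b, rfl⟩
      refine Subtype.ext ?_
      show f a * f b = f b * f a
      rw [← map_mul, ← map_mul, hAc.is_comm.comm a b]
    · rintro _ ⟨a, rfl⟩
      rw [← map_pow, show a ^ 2 = 1 from Subtype.ext (by simpa using hA2 a a.2), map_one]
    · rw [← Nat.card_congr (MonoidHom.ofInjective hf).toEquiv]
      obtain ⟨k, hk⟩ := hAp.exists_card_eq
      rw [hk] at hAcard ⊢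
      refine Nat.pow_le_pow_right (by norm_num) ?_
      by_contra hlt
      exact hAcard (Nat.pow_le_pow_right (by norm_num) (by omega))
  · rintro ⟨A, hAc, hA2, hAcard⟩
    have h3 := h2 (A.map (S : Subgroup G).subtype) inferInstance (by
      rintro _ ⟨a, ha, rfl⟩
      rw [← map_pow, hA2 a ha, map_one])
    rw [Subgroup.card_map_of_injective (Subgroup.subtype_injective _)] at h3
    have := hAcard.trans h3
    norm_num at this

/-- Without isolated involutions the fusion system of a Sylow `2`-subgroup has trivial centre. -/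
theorem center_eq_bot_of_no_isolated (S : Sylow 2 G) (hiso : ∀ z : G, ¬ Cfsg.IsIsolatedInvolution z) :
    (groupFusionSystem (S : Subgroup G)).center = ⊥ := by
  have : Fact (Nat.Prime 2) := ⟨Nat.prime_two⟩
  set F := groupFusionSystem (S : Subgroup G) with hF
  have hZ := isCentral_center (F := F)
  by_contra hne
  have : Nontrivial F.center := (Subgroup.nontrivial_iff_ne_bot _).2 hne
  obtain ⟨k, hk⟩ := (S.2.to_le hZ.1).exists_card_eq
  obtain ⟨⟨z, hz⟩, hzord⟩ := exists_prime_orderOf_dvd_card' (G := F.center) 2 (by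
    have h1 : 1 < Nat.card F.center := Finite.one_lt_card
    rw [hk] at h1 ⊢
    refine dvd_pow_self 2 ?_
    rintro rfl
    simp at h1)
  rw [Subgroup.orderOf_mk] at hzord
  have hzS : z ∈ (S : Subgroup G) := hZ.1 hz
  have hzc : ∀ g : G, g * z * g⁻¹ ∈ (S : Subgroup G) → g * z * g⁻¹ = z := by
    intro g hg
    obtain ⟨ψ, -, hψ, hfix⟩ := hZ.2 (Subgroup.zpowers z) (conjHom _ g)
      ⟨Subgroup.zpowers_le.mpr hzS, by
        rintro ⟨_, m, rfl⟩
        show g * z ^ m * g⁻¹ ∈ (S : Subgroup G)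
        rw [← conj_zpow]
        exact zpow_mem hg m, g, fun y => rfl⟩
    exact ((hψ ⟨z, Subgroup.mem_zpowers z⟩).symm.trans (hfix ⟨z, hz⟩))
  refine hiso z ⟨hzord, fun g hcomm => ?_⟩
  have hSC : (S : Subgroup G) ≤ Subgroup.centralizer {z} := fun s hs => by
    rw [Subgroup.mem_centralizer_singleton_iff]
    have := F.center_le_centralizer hz s hs
    exact this
  have hord : orderOf (g * z * g⁻¹) = 2 := by
    rw [← MulAut.conj_apply, MulEquiv.orderOf_eq, hzord]
  obtain ⟨h, hh, hmem⟩ := exists_conj_mem_of_le (U := Subgroup.zpowers (g * z * g⁻¹))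
    (T := (S : Subgroup G)) (N := Subgroup.centralizer {z})
    (IsPGroup.of_card (n := 1) (by rw [Nat.card_zpowers, hord, pow_one])) S.2
    (Subgroup.zpowers_le.2 (Subgroup.mem_centralizer_singleton_iff.2 hcomm.eq.symm)) hSC
    (fun hd => S.not_dvd_index (hd.trans (Subgroup.relIndex_dvd_index_of_le hSC)))
  have h1 := hmem _ (Subgroup.mem_zpowers _)
  have h2 : h * g * z * (h * g)⁻¹ = h * (g * z * g⁻¹) * h⁻¹ := by group
  have h3 := hzc (h * g) (h2 ▸ h1)
  rw [h2] at h3
  have h4 : h * z = z * h := Subgroup.mem_centralizer_singleton_iff.1 hh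
  calc g * z * g⁻¹ = h⁻¹ * (h * (g * z * g⁻¹) * h⁻¹) * h := by group
    _ = h⁻¹ * (z * h) := by rw [h3, mul_assoc]
    _ = z := by rw [← h4, inv_mul_cancel_left]

/-- In a nonabelian simple group the fusion system has trivial centre. -/
theorem center_eq_bot_of_simple [IsSimpleGroup G] (hG : ¬ IsMulCommutative G) (S : Sylow 2 G)
    (hS : (S : Subgroup G) ≠ ⊥) : (groupFusionSystem (S : Subgroup G)).center = ⊥ := by
  have : Fact (Nat.Prime 2) := ⟨Nat.prime_two⟩
  have hN : (oddCore G).Normal := by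
    have := CfsgLib.Cores.pPrimeCore_characteristic (G := G) 2
    infer_instance
  rw [CfsgLib.Fusion.center_eq_comap_center S, eq_bot_iff]
  intro x hx
  rcases IsSimpleGroup.eq_bot_or_eq_top_of_normal _ hN with h | h
  · rcases IsSimpleGroup.eq_bot_or_eq_top_of_normal (Subgroup.center G) inferInstance with h' | h'
    · rw [← h', Subgroup.mem_center_iff]
      intro g
      have h1 := Subgroup.mem_center_iff.1 (Subgroup.mem_comap.1 hx.2) (g : G ⧸ oddCore G)
      rw [QuotientGroup.mk'_apply, ← QuotientGroup.mk_mul, ← QuotientGroup.mk_mul, QuotientGroup.eq,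
        h, Subgroup.mem_bot] at h1
      exact eq_of_inv_mul_eq_one h1
    · exact absurd ⟨⟨fun a b => (Subgroup.mem_center_iff.1 (h'.symm ▸ Subgroup.mem_top a :
        a ∈ Subgroup.center G) b).symm⟩⟩ hG
  · exfalso
    have h1 : ¬ 2 ∣ Nat.card (oddCore G) := CfsgLib.Cores.not_dvd_card_pPrimeCore 2
    rw [h, Subgroup.card_top] at h1
    refine hS (Subgroup.card_eq_one.1 ?_)
    obtain ⟨k, hk⟩ := S.2.exists_card_eq
    rcases k with _ | k
    · exact hk
    · exact absurd ((hk ▸ dvd_pow_self 2 (Nat.succ_ne_zero k)).trans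
        (Subgroup.card_subgroup_dvd_card (S : Subgroup G))) h1

end CfsgLib.Fusion.RankTwo
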